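import Groth.Agent.Synt29.ExtBC

/-!
# Exterior powers commute with localization
-/

set_option autoImplicit false

universe u v w w'

open scoped TensorProduct

namespace Groth.Agent.Div86.ExtP

variable {A : Type u} {B : Type v} [CommRing A] [CommRing B] [Algebra A B]
  {M : Type w} [AddCommGroup M] [Module A M]
  {M' : Type w'} [AddCommGroup M'] [Module B M'] [Module A M'] [IsScalarTower A B M']

variable (B) in
/-- The wedge of the images of elements, as an alternating map over the small ring. -/
noncomputable def resMap (f : M →ₗ[A] M') (p : ℕ) : ↥(⋀[A]^p M) →ₗ[A] ↥(⋀[B]^p M') :=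
  exteriorPower.alternatingMapLinearEquiv
    ((({ toFun := exteriorPower.ιMulti B p
         map_update_add' := fun v i x y => by
           convert! (exteriorPower.ιMulti B p).map_update_add v i x y
         map_update_smul' := fun v i c x => by
           rw [← algebraMap_smul B c x, AlternatingMap.map_update_smul, algebraMap_smul]
         map_eq_zero_of_eq' := fun v i k hv hik =>
           AlternatingMap.map_eq_zero_of_eq _ _ hv hik } : M' [⋀^Fin p]→ₗ[A] ↥(⋀[B]^p M'))).compLinearMap f)

theorem resMap_ιMulti (f : M →ₗ[A] M') (p : ℕ) (v : Fin p → M) :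
    resMap B f p (exteriorPower.ιMulti A p v) = exteriorPower.ιMulti B p (fun i => f (v i)) := by
  rw [resMap, exteriorPower.alternatingMapLinearEquiv_apply_ιMulti]
  rfl

/-- The exterior power of a localization is the localization of the exterior power. -/
theorem isLocalizedModule_resMap (S : Submonoid A) [IsLocalization S B] (f : M →ₗ[A] M')
    [IsLocalizedModule S f] (p : ℕ) : IsLocalizedModule S (resMap B f p) := by
  have hf : IsBaseChange B f := IsLocalizedModule.isBaseChange S B f
  rw [isLocalizedModule_iff_isBaseChange S B]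
  let e : (B ⊗[A] M) ≃ₗ[B] M' := hf.equiv
  let E : ↥(⋀[B]^p (B ⊗[A] M)) ≃ₗ[B] ↥(⋀[B]^p M') :=
    LinearEquiv.ofBijective (exteriorPower.map p e.toLinearMap)
      ⟨exteriorPower.map_injective e.symm.toLinearMap (by ext x; simp),
        exteriorPower.map_surjective e.surjective⟩
  refine IsBaseChange.of_equiv ((LinearEquiv.ofBijective _ (Synt29.ExtBC.bijective_fwd p)).trans E) fun z => ?_
  have hz : z ∈ Submodule.span A (Set.range (exteriorPower.ιMulti A p (M := M))) := by
    rw [exteriorPower.ιMulti_span]; trivial
  induction hz using Submodule.span_induction with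
  | mem _ h =>
    obtain ⟨v, rfl⟩ := h
    show exteriorPower.map p e.toLinearMap (Synt29.ExtBC.fwd A B M p ((1 : B) ⊗ₜ _)) = _
    rw [Synt29.ExtBC.fwd_tmul, one_smul, resMap_ιMulti]
    rw [exteriorPower.map_apply_ιMulti]
    refine congrArg _ (funext fun i => ?_)
    exact (IsBaseChange.equiv_tmul hf 1 (v i)).trans (one_smul _ _)
  | zero => simp
  | add x y _ _ hx hy => rw [TensorProduct.tmul_add, map_add, hx, hy, map_add]
  | smul a x _ hx =>
    rw [TensorProduct.tmul_smul, ← algebraMap_smul B a ((1 : B) ⊗ₜ[A] x), map_smul, hx, algebraMap_smul,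
      map_smul]

end Groth.Agent.Div86.ExtP
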