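import Groth.Agent.Div86.ExtPow.Sheaf
import Groth.Agent.Div86.Ref.Divisor
import Mathlib.LinearAlgebra.Determinant

/-!
# Orders of determinants in the reflexive hull of a top exterior power
-/

set_option autoImplicit false
set_option linter.style.haveILetI false
set_option backward.isDefEq.respectTransparency false
set_option backward.isDefEq.respectTransparency.types false

universe u

open CategoryTheory AlgebraicGeometry TopologicalSpace Groth.Agent.H23 Groth.Agent.InvX IsLocalRing

namespace Groth.Agent.Div86.ExtP

variable {X : Scheme.{u}} [IsIntegral X] [IsLocallyNoetherian X] {r : ℕ} {F L : X.Modules}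

/-- Generators of the stalk modulo torsion, forming a basis of the generic stalk. -/
lemma exists_generic_basis (hX : Pi1.IsNormalScheme X) (hF : Coh.IsCoh F) {x : X}
    (hx : Order.coheight x = 1)
    (b : Module.Basis (Fin r) X.functionField (F.presheaf.stalk (genericPoint X))) :
    ∃ (v : Fin r → F.presheaf.stalk x)
      (bv : Module.Basis (Fin r) X.functionField (F.presheaf.stalk (genericPoint X))),
      (∀ j, bv j = Ref.toGen F x (v j)) ∧ ∀ m, ∃ a : Fin r → X.presheaf.stalk x,
        Ref.toGen F x m = ∑ j, algebraMap (X.presheaf.stalk x) X.functionField (a j) • bv j := by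
  classical
  haveI := Ref.isPID hX hx
  haveI := Ref.finite_stalk hF x
  let O := X.presheaf.stalk x
  let T := Submodule.torsion O (F.presheaf.stalk x)
  haveI : Module.Free O (F.presheaf.stalk x ⧸ T) := Module.free_of_finite_type_torsion_free'
  let c := Module.Free.chooseBasis O (F.presheaf.stalk x ⧸ T)
  choose v hv using fun j => T.mkQ_surjective (c j)
  have halg : Function.Injective (algebraMap O X.functionField) := IsFractionRing.injective _ _
  have htor : ∀ m ∈ T, Ref.toGen F x m = 0 := by
    rintro m ⟨⟨a, ha⟩, ham⟩
    have h := congrArg (Ref.toGen F x) (show a • m = 0 from ham)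
    rw [Ref.toGen_smul, map_zero] at h
    exact (smul_eq_zero.1 h).resolve_left ((map_ne_zero_iff _ halg).2 (nonZeroDivisors.ne_zero ha))
  have hcoord : ∀ m, Ref.toGen F x m = ∑ j, algebraMap O X.functionField (c.repr (T.mkQ m) j) •
      Ref.toGen F x (v j) := fun m => by
    have h1 : m - ∑ j, c.repr (T.mkQ m) j • v j ∈ T := by
      rw [← Submodule.Quotient.mk_eq_zero, ← Submodule.mkQ_apply, map_sub, map_sum, sub_eq_zero]
      simp only [map_smul, hv]
      exact (c.sum_repr _).symm
    have h2 := htor _ h1
    rw [map_sub, map_sum, sub_eq_zero] at h2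
    rw [h2]
    exact Finset.sum_congr rfl fun j _ => Ref.toGen_smul _ _
  have hli : LinearIndependent X.functionField (fun j => Ref.toGen F x (v j)) := by
    rw [Fintype.linearIndependent_iff]
    intro g hg i
    obtain ⟨d, hd⟩ := IsLocalization.exist_integer_multiples_of_finite (nonZeroDivisors O) g
    choose a ha using hd
    have h0 : Ref.toGen F x (∑ j, a j • v j) = 0 := by
      rw [map_sum]
      have : ∀ j, Ref.toGen F x (a j • v j) = algebraMap O X.functionField d.1 • (g j • Ref.toGen F x (v j)) :=
        fun j => by
          rw [Ref.toGen_smul, smul_smul]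
          exact congrArg (· • _) ((ha j).trans (Algebra.smul_def _ _))
      rw [Finset.sum_congr rfl fun j _ => this j, ← Finset.smul_sum, hg, smul_zero]
    obtain ⟨e, he, hea⟩ := Ref.exists_smul_eq_zero hF.1 h0
    have hmem : (∑ j, a j • v j) ∈ T := ⟨⟨e, mem_nonZeroDivisors_of_ne_zero he⟩, hea⟩
    have h3 : ∑ j, a j • c j = 0 := by
      rw [← Submodule.Quotient.mk_eq_zero, ← Submodule.mkQ_apply, map_sum] at hmem
      simpa only [map_smul, hv] using hmem
    have h4 : a i = 0 := (Fintype.linearIndependent_iff.1 c.linearIndependent) a h3 i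
    have h5 : algebraMap O X.functionField d.1 * g i = 0 := by
      rw [← Algebra.smul_def, ← ha i, h4, map_zero]
    exact (mul_eq_zero.1 h5).resolve_left ((map_ne_zero_iff _ halg).2 (nonZeroDivisors.ne_zero d.2))
  have hsp : ⊤ ≤ Submodule.span X.functionField (Set.range fun j => Ref.toGen F x (v j)) := by
    intro w _
    obtain ⟨a, ha, m, hm⟩ := Ref.exists_smul_mem_range hF.1 x w
    have hmem : Ref.toGen F x m ∈ Submodule.span X.functionField (Set.range fun j => Ref.toGen F x (v j)) := by
      rw [hcoord m]
      exact Submodule.sum_mem _ fun j _ => Submodule.smul_mem _ _ (Submodule.subset_span ⟨j, rfl⟩)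
    rw [hm] at hmem
    exact (Submodule.smul_mem_iff _ ((map_ne_zero_iff _ halg).2 ha)).1 hmem
  let bK := Module.Basis.mk hli hsp
  let σ := bK.indexEquiv b
  refine ⟨fun j => v (σ.symm j), bK.reindex σ, fun j => by simp [bK], fun m =>
    ⟨fun j => c.repr (T.mkQ m) (σ.symm j), ?_⟩⟩
  rw [hcoord m, ← σ.symm.sum_comp]
  exact Finset.sum_congr rfl fun j _ => by simp [bK, O]

variable (hL : ExtPow.IsExtPow r F L) (hF : Coh.IsCoh F)

/-- A wedge, in the reflexive hull. -/
noncomputable def hull (x : X) (v : Fin r → F.presheaf.stalk x) : (RefHull.ddual L).presheaf.stalk x :=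
  RefHull.stalkMapₗ (RefHull.bidualMap L) x (gw hL hF.1 x v)

lemma toGen_hull {x : X} (v : Fin r → F.presheaf.stalk x) :
    Ref.toGen (RefHull.ddual L) x (hull hL hF x v) = hull hL hF (genericPoint X) (fun j => Ref.toGen F x (v j)) := by
  rw [hull, ← Ref.toGen_natural, toGen_gw]
  rfl

/-- On the generic stalk, wedges are determinants. -/
lemma hull_eq_det (b : Module.Basis (Fin r) X.functionField (F.presheaf.stalk (genericPoint X)))
    (w : Fin r → F.presheaf.stalk (genericPoint X)) :
    hull hL hF (genericPoint X) w = (b.det w : X.functionField) • hull hL hF (genericPoint X) b := by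
  show RefHull.stalkMapₗ _ _ _ = _
  let g : (F.presheaf.stalk (genericPoint X)) [⋀^Fin r]→ₗ[X.functionField] L.presheaf.stalk (genericPoint X) :=
    gw hL hF.1 (genericPoint X)
  have hg : g = (LinearMap.toSpanSingleton X.functionField _ (g b)).compAlternatingMap b.det := by
    refine Module.Basis.ext_alternating b fun v hv => ?_
    let σ : Equiv.Perm (Fin r) := Equiv.ofBijective v (Finite.injective_iff_bijective.1 hv)
    rw [LinearMap.compAlternatingMap_apply, show (fun i => b (v i)) = (b : Fin r → _) ∘ σ from rfl,
      AlternatingMap.map_perm, AlternatingMap.map_perm, b.det_self, map_zsmul_unit]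
    rw [LinearMap.toSpanSingleton_apply, one_smul]
  have h : g w = b.det w • g b := by
    conv_lhs => rw [hg]
    rfl
  exact (congrArg (RefHull.stalkMapₗ (RefHull.bidualMap L) (genericPoint X)) h).trans (map_smul _ _ _)

lemma isGen_hull (b : Module.Basis (Fin r) X.functionField (F.presheaf.stalk (genericPoint X))) :
    RatSec.IsGen (hull hL hF (genericPoint X) b) := by
  have hbij := Ref.bidual_bijective_generic (isCoh hL hF)
  refine ⟨Submodule.eq_top_iff'.2 fun z => ?_, fun a ha => ?_⟩
  · obtain ⟨y, rfl⟩ := hbij.2 z
    have hy : y ∈ Submodule.span (X.presheaf.stalk (genericPoint X)) (Set.range (gw hL hF.1 (genericPoint X))) :=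
      (span_gw hL hF.1 _).ge Submodule.mem_top
    induction hy using Submodule.span_induction with
    | mem _ h =>
      obtain ⟨w, rfl⟩ := h
      exact Submodule.mem_span_singleton.2 ⟨b.det w, (hull_eq_det hL hF b w).symm⟩
    | zero => rw [map_zero]; exact zero_mem _
    | add x y _ _ hx hy => rw [map_add]; exact add_mem hx hy
    | smul a x _ hx => rw [map_smul]; exact Submodule.smul_mem _ a hx
  · have h1 : a • gw hL hF.1 (genericPoint X) b = 0 :=
      hbij.1 (by rw [map_smul, map_zero]; exact ha)
    by_contra h0
    have h2 : gw hL hF.1 (genericPoint X) b = 0 :=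
      (smul_eq_zero (R := X.functionField) (M := L.presheaf.stalk (genericPoint X))).1 h1 |>.resolve_left h0
    exact gw_basis_ne_zero hL hF.1 (x := genericPoint X) b h2

include hL hF in
/-- The reflexive hull of a top exterior power has rank one. -/
theorem isRef1_ddual (b : Module.Basis (Fin r) X.functionField (F.presheaf.stalk (genericPoint X))) :
    RefHull.IsRef1 (RefHull.ddual L) := by
  have hc := isCoh hL hF
  have hr := Ref.isReflexive_ddual hc
  exact ⟨Ref.isCoh_ddual hc, hr, Ref.genInvertible_of_isGen (Ref.isCoh_ddual hc)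
    (Ref.isTorsionFree_of_reflexive (Ref.isCoh_ddual hc) hr) (isGen_hull hL hF b)⟩

/-- The order of a wedge is the order of the determinant in generators of the stalk. -/
theorem sord_hull (hX : Pi1.IsNormalScheme X) {x : X} (hx : Order.coheight x = 1)
    {v : Fin r → F.presheaf.stalk x}
    (bv : Module.Basis (Fin r) X.functionField (F.presheaf.stalk (genericPoint X)))
    (hbv : ∀ j, bv j = Ref.toGen F x (v j))
    (hv : ∀ m, ∃ a : Fin r → X.presheaf.stalk x,
      Ref.toGen F x m = ∑ j, algebraMap (X.presheaf.stalk x) X.functionField (a j) • bv j)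
    (w : Fin r → F.presheaf.stalk (genericPoint X)) (hw : bv.det w ≠ 0) :
    Ref.sord (RefHull.ddual L) x (hull hL hF (genericPoint X) w) = Scheme.ord (bv.det w : X.functionField) x := by
  classical
  have hD := isRef1_ddual hL hF bv
  haveI := Ref.isTorsionFree_of_reflexive hD.1 hD.2.1 x
  have hinj := Ref.toGen_injective hD.1.1 x
  have hgenη : RatSec.IsGen (Ref.toGen (RefHull.ddual L) x (hull hL hF x v)) := by
    rw [toGen_hull, ← funext hbv]
    exact isGen_hull hL hF bv
  have ht : RatSec.IsGen (hull hL hF x v) := by
    refine ⟨Submodule.eq_top_iff'.2 fun z => ?_, fun a ha => ?_⟩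
    · obtain ⟨y, rfl⟩ := Ref.bidual_surjective_codim_one hX hx (isCoh hL hF) z
      have hy : y ∈ Submodule.span (X.presheaf.stalk x) (Set.range (gw hL hF.1 x)) :=
        (span_gw hL hF.1 _).ge Submodule.mem_top
      induction hy using Submodule.span_induction with
      | mem _ h =>
        obtain ⟨y, rfl⟩ := h
        choose a ha using fun j => hv (y j)
        let A : Matrix (Fin r) (Fin r) (X.presheaf.stalk x) := Matrix.of fun i j => a j i
        refine Submodule.mem_span_singleton.2 ⟨A.det, hinj ?_⟩
        show Ref.toGen _ x (A.det • _) = Ref.toGen _ x (hull hL hF x y)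
        rw [Ref.toGen_smul, toGen_hull, toGen_hull, ← funext hbv, hull_eq_det hL hF bv fun j => Ref.toGen F x (y j)]
        refine congrArg (· • _) ?_
        rw [Module.Basis.det_apply, RingHom.map_det]
        refine congrArg Matrix.det (Matrix.ext fun i j => ?_)
        rw [Module.Basis.toMatrix_apply, ha j, Module.Basis.repr_sum_self]
        rfl
      | zero => rw [map_zero]; exact zero_mem _
      | add x y _ _ hx hy => rw [map_add]; exact add_mem hx hy
      | smul a y _ hy => rw [map_smul]; exact Submodule.smul_mem _ a hy
    · have h1 := congrArg (Ref.toGen (RefHull.ddual L) x) ha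
      rw [Ref.toGen_smul, map_zero] at h1
      exact (map_eq_zero_iff _ (IsFractionRing.injective (X.presheaf.stalk x) X.functionField)).1 (hgenη.2 _ h1)
  rw [hull_eq_det hL hF bv w, funext hbv, ← toGen_hull]
  have hfun : (⇑bv : Fin r → F.presheaf.stalk (genericPoint X)) = fun j => Ref.toGen F x (v j) := funext hbv
  exact Ref.sord_gen hx ht hgenη hw

end Groth.Agent.Div86.ExtP
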