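import Groth.Prelude.Def_ExtPow2
import Groth.Agent.Div86.ExtPow.Loc
import Groth.Agent.QCoh.Qcqs
import Groth.Agent.QCoh.Support
import Groth.Agent.Div86.Ref.Stalk
import Groth.Agent.InvX.Tensor
import Mathlib.LinearAlgebra.ExteriorPower.Basis

/-!
# Stalks of exterior powers
-/

set_option autoImplicit false
set_option linter.style.haveILetI false
set_option backward.isDefEq.respectTransparency false
set_option backward.isDefEq.respectTransparency.types false

universe u

open CategoryTheory AlgebraicGeometry TopologicalSpace Groth.Agent.H23 Groth.Agent.InvX Opposite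

namespace Groth.Agent.Div86.ExtP

variable {X : Scheme.{u}} {i : ℕ} {E L : X.Modules} (hL : ExtPow.IsExtPow i E L)

/-- The chosen chart of an exterior power. -/
noncomputable def chart {U : X.Opens} (hU : IsAffineOpen U) :
    Γ(L, U) ≃ₗ[Γ(X, U)] ↥(⋀[Γ(X, U)]^i Γ(E, U)) := hL.choose ⟨U, hU⟩

/-- The section given by a wedge. -/
noncomputable def wedge {U : X.Opens} (hU : IsAffineOpen U) (e : Fin i → Γ(E, U)) : Γ(L, U) :=
  (chart hL hU).symm (exteriorPower.ιMulti _ i e)

lemma res_wedge {U V : X.Opens} (hU : IsAffineOpen U) (hV : IsAffineOpen V) (h : V ≤ U)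
    (e : Fin i → Γ(E, U)) :
    AModX.res L h (wedge hL hU e) = wedge hL hV (fun j => AModX.res E h (e j)) :=
  hL.choose_spec ⟨U, hU⟩ ⟨V, hV⟩ h e

lemma wedge_induction {U : X.Opens} (hU : IsAffineOpen U) {P : Γ(L, U) → Prop} (h0 : P 0)
    (hadd : ∀ a b, P a → P b → P (a + b)) (hsmul : ∀ (r : Γ(X, U)) a, P a → P (r • a))
    (hw : ∀ e, P (wedge hL hU e)) (t : Γ(L, U)) : P t := by
  rw [← (chart hL hU).symm_apply_apply t]
  generalize chart hL hU t = z
  have hz : z ∈ Submodule.span Γ(X, U)
      (Set.range (exteriorPower.ιMulti Γ(X, U) i (M := Γ(E, U)))) := by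
    rw [exteriorPower.ιMulti_span]; trivial
  induction hz using Submodule.span_induction with
  | mem _ h =>
    obtain ⟨v, rfl⟩ := h
    exact hw v
  | zero => rwa [map_zero]
  | add x y _ _ hx hy => rw [map_add]; exact hadd _ _ hx hy
  | smul a x _ hx => rw [map_smul]; exact hsmul _ _ hx

include hL in
/-- An exterior power of a quasi-coherent module is quasi-coherent. -/
theorem isQCoh (hE : Coh.IsQCoh E) : Coh.IsQCoh L := by
  have key : ∀ (U : X.Opens) (hU : IsAffineOpen U) (f : Γ(X, U)),
      letI := QCoh.basicModule f E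
      haveI : IsScalarTower Γ(X, U) Γ(X, X.basicOpen f) Γ(E, X.basicOpen f) :=
        IsScalarTower.of_algebraMap_smul fun _ _ => rfl
      ∀ t : Γ(L, U), chart hL (hU.basicOpen f) (AModX.res L (X.basicOpen_le f) t) =
        resMap Γ(X, X.basicOpen f) (QCoh.basicRes f E) i (chart hL hU t) := by
    intro U hU f
    letI := QCoh.basicModule f E
    haveI : IsScalarTower Γ(X, U) Γ(X, X.basicOpen f) Γ(E, X.basicOpen f) :=
      IsScalarTower.of_algebraMap_smul fun _ _ => rfl
    intro t
    revert t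
    refine wedge_induction hL hU (by simp) (fun a b ha hb => by rw [map_add, map_add, ha, hb, map_add, map_add])
      (fun r a ha => ?_) fun e => ?_
    · rw [AModX.res_smul, map_smul, ha, map_smul, map_smul]
      exact (algebraMap_smul Γ(X, X.basicOpen f) r _)
    · rw [res_wedge hL hU (hU.basicOpen f), wedge, wedge, LinearEquiv.apply_symm_apply,
        LinearEquiv.apply_symm_apply, resMap_ιMulti]
      rfl
  refine QCoh.isQCoh_of_sections (fun U hU f s => ?_) (fun U hU f t ht => ?_)
  · letI := QCoh.basicModule f E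
    haveI : IsScalarTower Γ(X, U) Γ(X, X.basicOpen f) Γ(E, X.basicOpen f) :=
      IsScalarTower.of_algebraMap_smul fun _ _ => rfl
    haveI := hU.isLocalization_basicOpen f
    haveI := QCoh.isLocalizedModule_basicRes f hE hU
    haveI := isLocalizedModule_resMap (B := Γ(X, X.basicOpen f)) (Submonoid.powers f) (QCoh.basicRes f E) i
    obtain ⟨⟨w, ⟨_, n, rfl⟩⟩, hw⟩ := IsLocalizedModule.surj (Submonoid.powers f)
      (resMap Γ(X, X.basicOpen f) (QCoh.basicRes f E) i) (chart hL (hU.basicOpen f) s)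
    refine ⟨n, (chart hL hU).symm w, (chart hL (hU.basicOpen f)).injective ?_⟩
    show chart hL (hU.basicOpen f) (AModX.res L (X.basicOpen_le f) ((chart hL hU).symm w)) = _
    rw [key U hU f, LinearEquiv.apply_symm_apply, ← hw, map_smul]
    refine (algebraMap_smul Γ(X, X.basicOpen f) (f ^ n) _).symm.trans ?_
    rw [map_pow]
    rfl
  · letI := QCoh.basicModule f E
    haveI : IsScalarTower Γ(X, U) Γ(X, X.basicOpen f) Γ(E, X.basicOpen f) :=
      IsScalarTower.of_algebraMap_smul fun _ _ => rfl
    haveI := hU.isLocalization_basicOpen f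
    haveI := QCoh.isLocalizedModule_basicRes f hE hU
    haveI := isLocalizedModule_resMap (B := Γ(X, X.basicOpen f)) (Submonoid.powers f) (QCoh.basicRes f E) i
    have h0 : resMap Γ(X, X.basicOpen f) (QCoh.basicRes f E) i (chart hL hU t) = 0 := by
      rw [← key U hU f t, show AModX.res L (X.basicOpen_le f) t = 0 from ht, map_zero]
    obtain ⟨⟨_, n, rfl⟩, hn⟩ := (IsLocalizedModule.eq_zero_iff (Submonoid.powers f)
      (resMap Γ(X, X.basicOpen f) (QCoh.basicRes f E) i)).1 h0
    exact ⟨n, (chart hL hU).injective (by rw [map_smul, map_zero]; exact hn)⟩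

include hL in
/-- An exterior power of a coherent module is coherent. -/
theorem isCoh (hE : Coh.IsCoh E) : Coh.IsCoh L := by
  refine QCoh.isCoh_iff.2 ⟨isQCoh hL hE.1, fun U => ?_⟩
  haveI := QCoh.finite_sections hE U.2
  exact Module.Finite.equiv (chart hL U.2).symm

/-- The stalk at `x` as an exterior power, computed on one affine neighbourhood. -/
theorem exists_equiv_aux (hE : Coh.IsQCoh E) {x : X} {A : X.Opens} (hA : IsAffineOpen A) (hx : x ∈ A) :
    ∃ T : L.presheaf.stalk x ≃ₗ[X.presheaf.stalk x] ↥(⋀[X.presheaf.stalk x]^i (E.presheaf.stalk x)),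
      ∀ e : Fin i → Γ(E, A), T (L.presheaf.germ A x hx (wedge hL hA e)) =
        exteriorPower.ιMulti _ i (fun j => E.presheaf.germ A x hx (e j)) := by
  letI := QCoh.stalkAlg (X := X) hx
  letI := QCoh.stalkModule E hx
  letI := QCoh.stalkModule L hx
  haveI := QCoh.isScalarTower_stalk E hx
  haveI := QCoh.isScalarTower_stalk L hx
  haveI := QCoh.isLocalization_stalk' hA hx
  let S := (hA.primeIdealOf ⟨x, hx⟩).asIdeal.primeCompl
  haveI := QCoh.isLocalizedModule_germLin hE hA hx
  haveI := QCoh.isLocalizedModule_germLin (isQCoh hL hE) hA hx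
  haveI := isLocalizedModule_resMap (B := X.presheaf.stalk x) S (QCoh.germLin E hx) i
  haveI : IsLocalizedModule S
      ((resMap (X.presheaf.stalk x) (QCoh.germLin E hx) i).comp (chart hL hA).toLinearMap) :=
    IsLocalizedModule.of_linearEquiv_right S _ _
  refine ⟨(IsLocalizedModule.linearEquiv S (QCoh.germLin L hx)
    ((resMap (X.presheaf.stalk x) (QCoh.germLin E hx) i).comp (chart hL hA).toLinearMap)).extendScalarsOfIsLocalization
      S (X.presheaf.stalk x), fun e => ?_⟩
  show IsLocalizedModule.linearEquiv S (QCoh.germLin L hx) _ (QCoh.germLin L hx (wedge hL hA e)) = _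
  rw [IsLocalizedModule.linearEquiv_apply, LinearMap.comp_apply, LinearEquiv.coe_coe, wedge,
    LinearEquiv.apply_symm_apply, resMap_ιMulti]
  rfl

lemma germ_induction (hE : Coh.IsQCoh E) {x : X} {A : X.Opens} (hA : IsAffineOpen A) (hx : x ∈ A)
    (P : Submodule (X.presheaf.stalk x) (L.presheaf.stalk x))
    (h : ∀ e, L.presheaf.germ A x hx (wedge hL hA e) ∈ P) : P = ⊤ := by
  refine eq_top_iff.2 fun w _ => ?_
  letI := QCoh.stalkAlg (X := X) hx
  letI := QCoh.stalkModule L hx
  haveI := QCoh.isScalarTower_stalk L hx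
  haveI := QCoh.isLocalization_stalk' hA hx
  haveI := QCoh.isLocalizedModule_germLin (isQCoh hL hE) hA hx
  obtain ⟨⟨n, d⟩, hnd⟩ := IsLocalizedModule.surj (hA.primeIdealOf ⟨x, hx⟩).asIdeal.primeCompl
    (QCoh.germLin L hx) w
  have hn : L.presheaf.germ A x hx n ∈ P := wedge_induction hL hA
    (P := fun t => L.presheaf.germ A x hx t ∈ P) (by rw [map_zero]; exact zero_mem _)
    (fun a b ha hb => by rw [map_add]; exact add_mem ha hb)
    (fun r a ha => by rw [QCoh.germ_smul']; exact P.smul_mem _ ha) h n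
  have h1 : algebraMap Γ(X, A) (X.presheaf.stalk x) d.1 • w ∈ P := by
    rw [algebraMap_smul]
    exact (congrArg (· ∈ P) hnd).mpr hn
  exact (Submodule.smul_mem_iff_of_isUnit P (IsLocalization.map_units (X.presheaf.stalk x) d)).1 h1

/-- The stalk as an exterior power, compatibly with all affine neighbourhoods. -/
theorem exists_equiv (hE : Coh.IsQCoh E) (x : X) :
    ∃ T : L.presheaf.stalk x ≃ₗ[X.presheaf.stalk x] ↥(⋀[X.presheaf.stalk x]^i (E.presheaf.stalk x)),
      ∀ (A : X.Opens) (hA : IsAffineOpen A) (hx : x ∈ A) (e : Fin i → Γ(E, A)),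
        T (L.presheaf.germ A x hx (wedge hL hA e)) =
          exteriorPower.ιMulti _ i (fun j => E.presheaf.germ A x hx (e j)) := by
  obtain ⟨A₀, hA₀, hx₀, -⟩ := exists_isAffineOpen_mem_and_subset (x := x) (U := ⊤) trivial
  obtain ⟨T, hT⟩ := exists_equiv_aux hL hE hA₀ hx₀
  refine ⟨T, fun A hA hx e => ?_⟩
  obtain ⟨A', hA', hx', hle⟩ := exists_isAffineOpen_mem_and_subset (x := x) (U := A ⊓ A₀) ⟨hx, hx₀⟩
  have hle₁ : A' ≤ A := fun y hy => (hle hy).1
  have hle₀ : A' ≤ A₀ := fun y hy => (hle hy).2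
  obtain ⟨T', hT'⟩ := exists_equiv_aux hL hE hA' hx'
  have hTT : ∀ w, T w = T' w := fun w => by
    have htop := germ_induction hL hE hA₀ hx₀ (LinearMap.eqLocus T.toLinearMap T'.toLinearMap) fun e₀ => by
      show T _ = T' _
      rw [hT, ← InvX.germ_res' hle₀ hx' (wedge hL hA₀ e₀), res_wedge hL hA₀ hA' hle₀, hT']
      exact congrArg _ (funext fun j => (InvX.germ_res' hle₀ hx' (e₀ j)).symm)
    exact (htop.ge (Submodule.mem_top : w ∈ ⊤) : _)
  rw [hTT, ← InvX.germ_res' hle₁ hx' (wedge hL hA e), res_wedge hL hA hA' hle₁, hT']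
  exact congrArg _ (funext fun j => InvX.germ_res' hle₁ hx' (e j))

variable (hE : Coh.IsQCoh E)

/-- The stalk as an exterior power. -/
noncomputable def stalkEquiv (x : X) :
    L.presheaf.stalk x ≃ₗ[X.presheaf.stalk x] ↥(⋀[X.presheaf.stalk x]^i (E.presheaf.stalk x)) :=
  (exists_equiv hL hE x).choose

/-- The wedge of elements of a stalk. -/
noncomputable def gw (x : X) : (E.presheaf.stalk x) [⋀^Fin i]→ₗ[X.presheaf.stalk x] L.presheaf.stalk x :=
  (stalkEquiv hL hE x).symm.toLinearMap.compAlternatingMap (exteriorPower.ιMulti _ i)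

lemma gw_germ {A : X.Opens} (hA : IsAffineOpen A) {x : X} (hx : x ∈ A) (e : Fin i → Γ(E, A)) :
    gw hL hE x (fun j => E.presheaf.germ A x hx (e j)) = L.presheaf.germ A x hx (wedge hL hA e) := by
  show (stalkEquiv hL hE x).symm _ = _
  rw [LinearEquiv.symm_apply_eq]
  exact ((exists_equiv hL hE x).choose_spec A hA hx e).symm

lemma span_gw (x : X) : Submodule.span (X.presheaf.stalk x) (Set.range (gw hL hE x)) = ⊤ := by
  have h := congrArg (Submodule.map (stalkEquiv hL hE x).symm.toLinearMap)
    (exteriorPower.ιMulti_span (X.presheaf.stalk x) i (E.presheaf.stalk x))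
  rw [Submodule.map_span, ← Set.range_comp, Submodule.map_top, LinearEquiv.range] at h
  exact h

lemma gw_basis_ne_zero {x : X} (b : Module.Basis (Fin i) (X.presheaf.stalk x) (E.presheaf.stalk x)) :
    gw hL hE x b ≠ 0 := by
  intro h
  have h1 : exteriorPower.ιMulti (X.presheaf.stalk x) i b = 0 :=
    (stalkEquiv hL hE x).symm.injective (h.trans (map_zero _).symm)
  have h2 := congrArg (exteriorPower.alternatingMapLinearEquiv b.det) h1
  rw [exteriorPower.alternatingMapLinearEquiv_apply_ιMulti, b.det_self, map_zero] at h2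
  exact one_ne_zero h2

/-- Representing finitely many germs on one affine open. -/
lemma exists_germs {n : ℕ} {x : X} (v : Fin n → E.presheaf.stalk x) :
    ∃ (A : X.Opens) (_ : IsAffineOpen A) (hx : x ∈ A) (e : Fin n → Γ(E, A)),
      ∀ j, E.presheaf.germ A x hx (e j) = v j := by
  choose V hV s hs using fun j => TopCat.Presheaf.exists_germ_eq E.presheaf (v j)
  have hmem : x ∈ Finset.univ.inf V := Finset.inf_induction (p := fun W : X.Opens => x ∈ W) trivial
    (fun _ ha _ hb => ⟨ha, hb⟩) (fun j _ => hV j)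
  obtain ⟨A, hA, hxA, hle⟩ := exists_isAffineOpen_mem_and_subset (x := x) (U := Finset.univ.inf V) hmem
  have hle' : ∀ j, A ≤ V j := fun j y hy => Finset.inf_le (f := V) (Finset.mem_univ j) (hle hy)
  exact ⟨A, hA, hxA, fun j => AModX.res E (hle' j) (s j), fun j => (InvX.germ_res' (hle' j) hxA (s j)).trans (hs j)⟩

lemma toGen_gw [IsIntegral X] {x : X} (v : Fin i → E.presheaf.stalk x) :
    Ref.toGen L x (gw hL hE x v) = gw hL hE (genericPoint X) (fun j => Ref.toGen E x (v j)) := by
  obtain ⟨A, hA, hx, e, he⟩ := exists_germs v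
  obtain rfl : v = fun j => E.presheaf.germ A x hx (e j) := funext fun j => (he j).symm
  rw [gw_germ hL hE hA hx, Ref.toGen_germ]
  simp only [Ref.toGen_germ]
  rw [gw_germ hL hE hA]

end Groth.Agent.Div86.ExtP
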